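import Groth.Agent.S7279
import Groth.Agent.DQGen.Lift
import Groth.Agent.DQGen.Generator
import Groth.Agent.DQGen.Vanish
import Groth.Agent.DQGen.RpushProperSupp
import Groth.Agent.PointOrth.Main
import Groth.Agent.KFlatLib.Scheme.ProjFormula
import Groth.Agent.KFlatLib.Scheme.CoEvalPerfect
import Groth.Agent.KFlatLib.Scheme.CohD
import Groth.Agent.PushAmp.RSheafHomExists
import Groth.Agent.PushAmp.SmoothAmp
import Groth.Agent.ExtShX.Basic

/-!
# The right adjoint of `Rf_*` preserves supports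
-/

set_option autoImplicit false
set_option linter.style.haveILetI false
set_option backward.isDefEq.respectTransparency false
set_option backward.isDefEq.respectTransparency.types false
set_option maxHeartbeats 800000
set_option synthInstance.maxHeartbeats 400000

universe u

open CategoryTheory CategoryTheory.Limits AlgebraicGeometry Pretriangulated

attribute [local instance] HasDerivedCategory.standard

noncomputable section

namespace Groth.Agent.AdjSupp

open Groth.Agent Groth.Agent.KFlatLib Groth.Agent.DQGen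

variable {X Y : Scheme.{u}} (f : X ⟶ Y) [DCoh.HasRpush f]
  (h : ∀ K : DCoh.D X, DCoh.IsQCohD K → DCoh.IsQCohD ((DCoh.Rpush f).obj K))
  (a : DCoh.DQCoh Y ⥤ DCoh.DQCoh X)
  (ad : (ObjectProperty.lift DCoh.IsQCohD (ObjectProperty.ι DCoh.IsQCohD ⋙ DCoh.Rpush f)
    (fun K => h K.obj K.property)) ⊣ a)

include h ad

/-- Killing a map after an adjunction transpose. -/
lemma comp_eq_zero_of_transpose {A B : DCoh.DQCoh X} {Q : DCoh.DQCoh Y} (g : A ⟶ B) (ψ : B ⟶ a.obj Q)
    (hz : (DCoh.Rpush f).map g.hom ≫ ((ad.homEquiv B Q).symm ψ).hom = 0) : g ≫ ψ = 0 := by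
  have e := ad.homEquiv_naturality_left_symm g ψ
  have h0 : (ad.homEquiv A Q).symm (g ≫ ψ) = 0 := by
    rw [e]
    exact InducedCategory.hom_ext hz
  haveI : a.IsRightAdjoint := ⟨_, ⟨ad⟩⟩
  have h1 := (congrArg (ad.homEquiv A Q) h0)
  rw [Equiv.apply_symm_apply, Adjunction.homEquiv_unit] at h1
  rw [h1, Functor.map_zero, comp_zero]

/-- Maps from perfect objects into `a Q` vanish on the preimage of an open missing `Q`. -/
theorem rho_map_eq_zero [CompactSpace Y] [QuasiSeparatedSpace Y] [CompactSpace X] [QuasiSeparatedSpace X]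
    [QuasiCompact f] [QuasiSeparated f] (V : Y.Opens) (hV : IsCompact (V : Set Y))
    (Q : DCoh.DQCoh Y) (hQ : IsZero ((rho V.ι).obj Q.obj))
    {P₀ : DCoh.D X} (hP₀ : DCoh.IsPerfect P₀)
    (hP₁ : DCoh.IsPerfect ((DCoh.Rpush f).obj P₀) ∨
      ((∀ m : ℤ, DCoh.IsPseudoCoherentD m ((DCoh.Rpush f).obj P₀)) ∧ ∃ c : ℤ, Q.obj.IsGE c))
    (ψ : P₀ ⟶ (a.obj Q).obj) :
    (rho (f ⁻¹ᵁ V).ι).map ψ = 0 := by
  obtain ⟨J, hJ, hJinj, ⟨eJ⟩⟩ := exists_kInjective_rep P₀
  haveI := hJ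
  obtain ⟨eI⟩ := nonempty_rpush_iso_of_kInjective (f := f) (I := J) (Iso.refl _)
  let R := (kRes Y).obj ((pushCxF f).obj J)
  let r : R ⟶ (pushCxF f).obj J := (flatCover Y).ψ.app _
  haveI : QuasiIso r := (flatCover Y).quasiIso_ψ _
  haveI := isIso_Q_map r inferInstance
  have hR : DCoh.IsKFlat R := isKFlat_kRes _
  let eR : DerivedCategory.Q.obj R ≅ (DCoh.Rpush f).obj P₀ :=
    asIso (DerivedCategory.Q.map r) ≪≫ eI.symm ≪≫ ((DCoh.Rpush f).mapIso eJ).symm
  haveI := hasLTensorCx R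
  haveI := PushAmp.hasRSheafHom R
  haveI := hasLTensorCx J
  haveI := hasLpull f
  have hRq : DCoh.IsQCohD (DCoh.toD Y R) := isQCohD_of_iso eR.symm (h P₀ (isQCohD_of_isPerfect hP₀))
  have hR₁ : DCoh.IsPerfect (DCoh.toD Y R) ∨
      ((∀ m : ℤ, DCoh.IsPseudoCoherentD m (DCoh.toD Y R)) ∧ ∃ c : ℤ, Q.obj.IsGE c) :=
    hP₁.imp (isPerfect_of_iso eR.symm) fun hh => ⟨fun m =>
      (isPseudoCoherentD_iff _ _).2 (((isPseudoCoherentD_iff _ _).1 (hh.1 m)).of_iso eR.symm), hh.2⟩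
  let S := (HomologicalComplex.single Y.Modules (ComplexShape.up ℤ) 0).obj (Coh.structureModule Y)
  have hS : DCoh.IsKFlat S := isKFlat_of_isStrictlyLE S 0 (isFlat_single 0 isFlat_structureModule)
  let eO : DerivedCategory.Q.obj S ≅ DCoh.inD Y (Coh.structureModule Y) :=
    ((DerivedCategory.singleFunctorIsoCompQ Y.Modules 0).app (Coh.structureModule Y)).symm
  have hSq : DCoh.IsQCohD (DerivedCategory.Q.obj S) :=
    isQCohD_of_iso eO.symm (isQCohD_of_isPerfect (S7279.isPerfect_structure Y))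
  -- the source of the transposed map
  haveI : IsIso (SheafOfModules.pullbackObjUnitToUnit f.toRingCatSheafHom) := inferInstance
  let e : (Scheme.Modules.pullback f).obj (Coh.structureModule Y) ≅ Coh.structureModule X :=
    asIso (SheafOfModules.pullbackObjUnitToUnit f.toRingCatSheafHom)
  let eS : (pullCx f).obj S ≅
      (HomologicalComplex.single X.Modules (ComplexShape.up ℤ) 0).obj (Coh.structureModule X) :=
    (HomologicalComplex.singleMapHomologicalComplex (Scheme.Modules.pullback f) _ 0).app _ ≪≫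
      (HomologicalComplex.single _ _ 0).mapIso e
  let e₂ : Inner.tenX (DCoh.tensorBi (X := X)) ((pullCx f).obj S) ≅
      shiftFunctor (CochainComplex X.Modules ℤ) (-0 : ℤ) :=
    DCoh.tensorBi.map₂CochainComplex.flip.mapIso eS ≪≫
      Inner.tensorUnitShiftIso (DCoh.tensorBi (X := X)) (Coh.structureModule X) (tensorStructureIso X) 0
  let e₀ : DerivedCategory.Q.obj ((DCoh.tensorCx.obj J).obj ((pullCx f).obj S)) ≅ P₀ :=
    DerivedCategory.Q.mapIso (e₂.app J ≪≫ (shiftFunctorZero' _ (-0 : ℤ) (by simp)).app J) ≪≫ eJ.symm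
  let Bo : DCoh.DQCoh X := ⟨DerivedCategory.Q.obj ((DCoh.tensorCx.obj J).obj ((pullCx f).obj S)),
    isQCohD_of_iso e₀.symm (isQCohD_of_isPerfect hP₀)⟩
  let ψ' : Bo ⟶ a.obj Q := ObjectProperty.homMk (e₀.hom ≫ ψ)
  let φ : (DCoh.Rpush f).obj Bo.obj ⟶ Q.obj := ((ad.homEquiv Bo Q).symm ψ').hom
  let γ : (DCoh.LTensorCx R).obj (DCoh.inD Y (Coh.structureModule Y)) ⟶ Q.obj :=
    (DCoh.LTensorCx R).map eO.inv ≫ (ltensorCxIso R hS).hom ≫ DerivedCategory.Q.map (braidCx S R).hom ≫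
      (projΘ f J r).app S ≫ φ
  obtain ⟨I, i, hI, hzero, hiso⟩ := S7279.result Y V hV R hRq Q.obj Q.property
    ((isZero_rho_iff_support V Q.obj).1 hQ) hR₁ γ
  -- represent `i` by a map of K-flat complexes
  let P₁ := DerivedCategory.Q.objPreimage I
  let eP : DerivedCategory.Q.obj P₁ ≅ I := DerivedCategory.Q.objObjPreimageIso I
  obtain ⟨Z, s, hs, g, hg⟩ := DerivedCategory.right_fac (eP.hom ≫ i ≫ eO.inv)
  haveI : IsIso (DerivedCategory.Q.map s) := hs
  let Pk := (kRes Y).obj Z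
  have hPk : DCoh.IsKFlat Pk := isKFlat_kRes _
  let g' : Pk ⟶ S := (flatCover Y).ψ.app Z ≫ g
  haveI := isIso_Q_map _ ((flatCover Y).quasiIso_ψ Z)
  let eZ : DerivedCategory.Q.obj Pk ≅ I :=
    asIso (DerivedCategory.Q.map ((flatCover Y).ψ.app Z)) ≪≫ asIso (DerivedCategory.Q.map s) ≪≫ eP
  have hgi : DerivedCategory.Q.map g' = eZ.hom ≫ i ≫ eO.inv := by
    have hg' : DerivedCategory.Q.map g = DerivedCategory.Q.map s ≫ eP.hom ≫ i ≫ eO.inv := by
      rw [hg, IsIso.hom_inv_id_assoc]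
    simp only [g', eZ, Functor.map_comp, hg', Iso.trans_hom, asIso_hom, Category.assoc]
  have hPkq : DCoh.IsQCohD (DerivedCategory.Q.obj Pk) :=
    isQCohD_of_iso eZ.symm (isQCohD_of_isPerfect hI)
  have hpull : DCoh.IsQCohD (DerivedCategory.Q.obj ((pullCx f).obj Pk)) :=
    isQCohD_of_iso (lpullIso f hPk) (isQCohD_lpull f hPkq)
  let Ao : DCoh.DQCoh X := ⟨DerivedCategory.Q.obj ((DCoh.tensorCx.obj J).obj ((pullCx f).obj Pk)),
    isQCohD_of_iso (ltensorCxIso J (isKFlat_pullback f hPk) ≪≫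
        DerivedCategory.Q.mapIso (braidCx ((pullCx f).obj Pk) J))
      (isQCohD_ltensor J (isQCohD_of_iso eJ (isQCohD_of_isPerfect hP₀)) hpull)⟩
  let G : Ao ⟶ Bo := ObjectProperty.homMk (DerivedCategory.Q.map ((DCoh.tensorCx.obj J).map ((pullCx f).map g')))
  -- vanishing
  have hz₁ : (DCoh.LTensorCx R).map (DerivedCategory.Q.map g') ≫ (ltensorCxIso R hS).hom ≫
      DerivedCategory.Q.map (braidCx S R).hom ≫ (projΘ f J r).app S ≫ φ = 0 := by
    rw [hgi, Functor.map_comp, Functor.map_comp, Category.assoc, Category.assoc]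
    exact (congrArg ((DCoh.LTensorCx R).map eZ.hom ≫ ·) hzero).trans comp_zero
  have hlt : (DCoh.LTensorCx R).map (DerivedCategory.Q.map g') ≫ (ltensorCxIso R hS).hom =
      (ltensorCxIso R hPk).hom ≫ DerivedCategory.Q.map ((DCoh.tensorCx.map g').app R) :=
    ((DCoh.tensorCxQ R).totalLeftDerivedCounit DerivedCategory.Q (qisX Y)).naturality g'
  have hbr : DerivedCategory.Q.map ((DCoh.tensorCx.map g').app R) ≫ DerivedCategory.Q.map (braidCx S R).hom =
      DerivedCategory.Q.map (braidCx Pk R).hom ≫ DerivedCategory.Q.map ((DCoh.tensorCx.obj R).map g') := by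
    rw [← Functor.map_comp, ← Functor.map_comp]
    exact congrArg DerivedCategory.Q.map ((symmIso (tensorBiFlipIso Y) R).hom.naturality g')
  rw [reassoc_of% hlt, reassoc_of% hbr] at hz₁
  have hz₂ : DerivedCategory.Q.map ((DCoh.tensorCx.obj R).map g') ≫ (projΘ f J r).app S ≫ φ = 0 :=
    (cancel_epi (DerivedCategory.Q.map (braidCx Pk R).hom)).1
      (((cancel_epi (ltensorCxIso R hPk).hom).1 (hz₁.trans comp_zero.symm)).trans comp_zero.symm)
  have hΘ := (projΘ f J r).naturality g'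
  simp only [Functor.comp_map] at hΘ
  rw [reassoc_of% hΘ] at hz₂
  haveI : IsIso ((projΘ f J r).app Pk) := by
    haveI := isIso_projθ f J r hR (isQCohD_of_iso eJ (isQCohD_of_isPerfect hP₀)) Pk hPkq
    haveI := isIso_kLiftε (kRespects_tensor R) hPk
    haveI := isIso_kLiftε (kRespects_pullTensor f J) hPk
    have h' := projθ_comp_ε f J r Pk
    haveI : IsIso ((kLiftε (kRespects_tensor R)).app Pk ≫ (projΘ f J r).app Pk) := by
      rw [← h']; infer_instance
    exact IsIso.of_isIso_comp_left ((kLiftε (kRespects_tensor R)).app Pk) _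
  have hz₃ : (DCoh.Rpush f).map G.hom ≫ φ = 0 :=
    (cancel_epi ((projΘ f J r).app Pk)).1 (hz₂.trans comp_zero.symm)
  have hGψ := congrArg (fun t => t.hom) (comp_eq_zero_of_transpose f h a ad G ψ' hz₃)
  change G.hom ≫ e₀.hom ≫ ψ = 0 at hGψ
  -- restriction
  haveI : IsIso ((DCoh.restrictD V.ι).map (DerivedCategory.Q.map g')) := by
    haveI := hiso
    rw [hgi, Functor.map_comp, Functor.map_comp]
    infer_instance
  haveI : QuasiIso ((rCx V.ι).map g') := (isIso_restrictD_map_iff V.ι g').1 inferInstance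
  haveI := quasiIso_rCx_pull f V g' hPk hS
  haveI := quasiIso_rCx_tensor' (kIm f V) J ((pullCx f).map g') (isKFlat_pullback f hPk) (isKFlat_pullback f hS)
  haveI : IsIso ((rho (f ⁻¹ᵁ V).ι).map G.hom) :=
    (isIso_restrictD_map_iff (kIm f V) ((DCoh.tensorCx.obj J).map ((pullCx f).map g'))).2 inferInstance
  have h3 := congrArg (rho (f ⁻¹ᵁ V).ι).map hGψ
  rw [Functor.map_comp, Functor.map_comp, Functor.map_zero] at h3
  exact (cancel_epi ((rho (f ⁻¹ᵁ V).ι).map e₀.hom)).1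
    (((cancel_epi ((rho (f ⁻¹ᵁ V).ι).map G.hom)).1 (h3.trans comp_zero.symm)).trans comp_zero.symm)

/-- The right adjoint of `Rf_*` preserves supports. -/
theorem isZero_rho_rightAdjoint [CompactSpace Y] [QuasiSeparatedSpace Y] [CompactSpace X] [QuasiSeparatedSpace X]
    [QuasiCompact f] [QuasiSeparated f] (V : Y.Opens) (hV : IsCompact (V : Set Y))
    (Q : DCoh.DQCoh Y) (hQ : IsZero ((rho V.ι).obj Q.obj))
    (hP₁ : ∀ P₀ : DCoh.D X, DCoh.IsPerfect P₀ → DCoh.IsPerfect ((DCoh.Rpush f).obj P₀) ∨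
      ((∀ m : ℤ, DCoh.IsPseudoCoherentD m ((DCoh.Rpush f).obj P₀)) ∧ ∃ c : ℤ, Q.obj.IsGE c)) :
    IsZero ((rho (f ⁻¹ᵁ V).ι).obj (a.obj Q).obj) := by
  let U := f ⁻¹ᵁ V
  let T := (a.obj Q).obj
  haveI : CompactSpace (U : Scheme.{u}) := compactSpace_opens (f.isCompact_preimage hV)
  haveI : QuasiSeparatedSpace (U : Scheme.{u}) := quasiSeparatedSpace_of_imm U.ι
  have hbot : IsCompact ((⊥ : X.Opens) : Set X) := by simp
  have hX := hasDetector X
  have key : ∀ (E : DCoh.D X), DCoh.IsPerfect E → ∀ (n : ℤ) (φ : (rho U.ι).obj E ⟶ ((rho U.ι).obj T)⟦n⟧),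
      φ = 0 := fun E hE n φ => by
    let e := ((rho U.ι).commShiftIso n).app T
    obtain ⟨E₁, β, γ, hE₁, _, hβ⟩ := exists_lift_map U.ι hX ⊥ hbot (E := E) (E' := T⟦n⟧)
      ⟨hE, isZero_rho_bot E⟩ ⟨isQCohD_shift (a.obj Q).property n, isZero_rho_bot _⟩ (φ ≫ e.inv)
    have hγ : (rho U.ι).map γ = 0 := by
      have h1 := rho_map_eq_zero f h a ad V hV Q hQ ((PP (⊥ : X.Opens)).le_shift (-n) _ hE₁).1
        (hP₁ _ ((PP (⊥ : X.Opens)).le_shift (-n) _ hE₁).1)
        (γ⟦-n⟧' ≫ (shiftFunctorCompIsoId (DCoh.D X) n (-n) (by simp)).hom.app T)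
      rw [Functor.map_comp] at h1
      have h2 : (rho U.ι).map (γ⟦-n⟧') = 0 :=
        (cancel_mono ((rho U.ι).map ((shiftFunctorCompIsoId (DCoh.D X) n (-n) (by simp)).hom.app T))).1
          (h1.trans zero_comp.symm)
      apply (shiftFunctor (DCoh.D (U : Scheme.{u})) (-n)).map_injective
      rw [Functor.map_zero, ← cancel_epi (((rho U.ι).commShiftIso (-n)).hom.app E₁), comp_zero,
        ← Functor.commShiftIso_hom_naturality]
      exact (congrArg (· ≫ _) h2).trans zero_comp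
    rw [hγ] at hβ
    exact (cancel_mono e.inv).1 (((cancel_epi ((rho U.ι).map β)).1 (hβ.trans comp_zero.symm)).trans zero_comp.symm)
  obtain ⟨p, hp, hdet⟩ := hasDetector (U : Scheme.{u}) ⊥ (by simp)
  refine hdet _ ⟨isQCohD_rho U.ι (a.obj Q).property, isZero_rho_bot _⟩ fun n φ => ?_
  obtain ⟨C, hC, ⟨eC⟩⟩ := exists_extension_double U.ι hX ⊥ hbot hp.1
    (isZero_rho_of_le (le_of_eq (by ext; simp)) hp.2)
  have h1 := key C hC.1 n (eC.hom ≫ biprod.fst ≫ φ)
  exact (cancel_epi biprod.fst).1 (((cancel_epi eC.hom).1 (h1.trans comp_zero.symm)).trans comp_zero.symm)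

omit h ad in
/-- Perfect objects have pseudo-coherent proper direct images. -/
theorem pc_rpush_of_isPerfect [IsNoetherian Y] [IsProper f] {P₀ : DCoh.D X} (hP₀ : DCoh.IsPerfect P₀) (m : ℤ) :
    DCoh.IsPseudoCoherentD m ((DCoh.Rpush f).obj P₀) := by
  haveI : IsLocallyNoetherian X := LocallyOfFiniteType.isLocallyNoetherian f
  haveI : CompactSpace X := QuasiCompact.compactSpace_of_compactSpace f
  haveI : HasInjectiveResolutions X.Modules := KFlatLib.hasInjectiveResolutions_modules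
  obtain ⟨lo, hi, _, _⟩ := exists_bounds_of_isPerfect hP₀
  have hc₀ : DCoh.IsCohD P₀ := PointOrth.isCohD_of_isPerfect hP₀
  have hgood : ∀ i, GoodPush f (DCoh.HD P₀ i) := fun i =>
    goodPush_of_properSupport f (hc₀ i)
      ⟨QCoh.isClosed_support_of_isFT (hc₀ i).1 (hc₀ i).2, inferInstance⟩
  have hcR : DCoh.IsCohD ((DCoh.Rpush f).obj P₀) := isCohD_rpush_of_isGE f P₀ lo hgood
  obtain ⟨b, _⟩ := exists_isLE_rpush f P₀ lo hi hgood
  exact (isPseudoCoherentD_iff _ _).2 (locPC_of_coh (isCohD_isQCohD hcR) (fun k _ => hcR k) b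
    (fun k hk => DerivedCategory.isZero_of_isLE _ b k hk))

end Groth.Agent.AdjSupp
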