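import Groth.Agent.AdjSupp.Main
import Groth.Agent.PushAmp.Adjoint

/-!
# Supports and sums under a perfect-preserving direct image
-/

set_option autoImplicit false
set_option linter.style.haveILetI false
set_option backward.isDefEq.respectTransparency false

universe u

open CategoryTheory CategoryTheory.Limits AlgebraicGeometry Pretriangulated

attribute [local instance] HasDerivedCategory.standard

noncomputable section

namespace Groth.Agent.AdjSupp

open Groth.Agent

variable {X Y : Scheme.{u}}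

/-- **The right adjoint of `Rf_*` preserves sums.** -/
theorem preservesSums_rightAdjoint [CompactSpace X] [QuasiSeparatedSpace X] [CompactSpace Y] [QuasiSeparatedSpace Y]
    (f : X ⟶ Y) [DCoh.HasRpush f] (hperf : ∀ P : DCoh.D X, DCoh.IsPerfect P → DCoh.IsPerfect ((DCoh.Rpush f).obj P))
    (h : ∀ K : DCoh.D X, DCoh.IsQCohD K → DCoh.IsQCohD ((DCoh.Rpush f).obj K))
    (a : DCoh.DQCoh Y ⥤ DCoh.DQCoh X)
    (adj : (ObjectProperty.lift DCoh.IsQCohD (ObjectProperty.ι DCoh.IsQCohD ⋙ DCoh.Rpush f)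
      (fun K => h K.obj K.property)) ⊣ a) (J : Type u) : PreservesColimitsOfShape (Discrete J) a := by
  classical
  haveI : (ObjectProperty.lift (DCoh.IsQCohD (X := Y)) ((DCoh.IsQCohD (X := X)).ι ⋙ DCoh.Rpush f)
      (fun K => h K.obj K.property)).IsLeftAdjoint := adj.isLeftAdjoint
  haveI : a.Additive := by
    haveI := adj.rightAdjoint_preservesLimits
    haveI := preservesBinaryBiproducts_of_preservesBinaryProducts a
    exact Functor.additive_of_preservesBinaryBiproducts a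
  haveI hJY : HasColimitsOfShape (Discrete J) (DCoh.DQCoh Y) := DQGen.hasSums_DQCoh J
  haveI hJX : HasColimitsOfShape (Discrete J) (DCoh.DQCoh X) := DQGen.hasSums_DQCoh J
  suffices H : ∀ M : J → DCoh.DQCoh Y, IsIso (sigmaComparison a M) by
    refine ⟨fun {K} => ?_⟩
    haveI := H fun j => K.obj ⟨j⟩
    haveI : PreservesColimit (Discrete.functor (K.obj ∘ Discrete.mk)) a :=
      PreservesCoproduct.of_iso_comparison a fun j => K.obj ⟨j⟩
    exact preservesColimit_of_iso_diagram _ (Discrete.natIsoFunctor (F := K)).symm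
  intro M
  let c := sigmaComparison a M
  have hsurj : ∀ (P : DCoh.DQCoh X), DCoh.IsPerfect P.obj → ∀ φ : P ⟶ a.obj (∐ M),
      ∃ x : P ⟶ ∐ fun j => a.obj (M j), x ≫ c = φ := by
    intro P hP φ
    let ψ := (adj.homEquiv P (∐ M)).symm φ
    obtain ⟨F, hF⟩ := PushAmp.fix_DQCoh (hperf _ hP) M ψ
    refine ⟨∑ j ∈ F, (adj.homEquiv P (M j) (ψ ≫ TriCat.coprodProj M j)) ≫ Sigma.ι (fun j => a.obj (M j)) j, ?_⟩
    have hadd : ∀ {B : DCoh.DQCoh Y} (g g' : _ ⟶ B), adj.homEquiv P B (g + g') =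
        adj.homEquiv P B g + adj.homEquiv P B g' := by
      intro B g g'
      simp [Adjunction.homEquiv_unit, Functor.map_add]
    rw [Preadditive.sum_comp]
    calc ∑ j ∈ F, ((adj.homEquiv P (M j) (ψ ≫ TriCat.coprodProj M j)) ≫ Sigma.ι (fun j => a.obj (M j)) j) ≫ c
        = ∑ j ∈ F, adj.homEquiv P (∐ M) ((ψ ≫ TriCat.coprodProj M j) ≫ Sigma.ι M j) := by
          refine Finset.sum_congr rfl fun j _ => ?_
          rw [Category.assoc, ι_comp_sigmaComparison]
          exact (adj.homEquiv_naturality_right _ _).symm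
      _ = adj.homEquiv P (∐ M) (∑ j ∈ F, (ψ ≫ TriCat.coprodProj M j) ≫ Sigma.ι M j) :=
          (map_sum (AddMonoidHom.mk' (adj.homEquiv P (∐ M)) hadd) _ _).symm
      _ = φ := by
          have : ∑ j ∈ F, (ψ ≫ TriCat.coprodProj M j) ≫ Sigma.ι M j = ψ := by
            conv_rhs => rw [← hF, DQGen.partProj_eq_sum, Preadditive.comp_sum]
            simp only [Category.assoc]
          rw [this]
          exact (adj.homEquiv P (∐ M)).apply_symm_apply φ
  have hinj : ∀ (P : DCoh.DQCoh X), DCoh.IsPerfect P.obj → ∀ x : P ⟶ ∐ fun j => a.obj (M j),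
      x ≫ c = 0 → x = 0 := by
    intro P hP x hx
    obtain ⟨F, hF⟩ := PushAmp.fix_DQCoh hP (fun j => a.obj (M j)) x
    rw [← hF, DQGen.partProj_eq_sum, Preadditive.comp_sum]
    refine Finset.sum_eq_zero fun k hk => ?_
    let y := fun j => (adj.homEquiv P (M j)).symm (x ≫ TriCat.coprodProj (fun j => a.obj (M j)) j)
    have hy : ∑ j ∈ F, y j ≫ Sigma.ι M j = 0 := by
      apply (adj.homEquiv P (∐ M)).injective
      have hadd : ∀ (g g' : _ ⟶ ∐ M), adj.homEquiv P (∐ M) (g + g') =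
          adj.homEquiv P (∐ M) g + adj.homEquiv P (∐ M) g' := by
        intro g g'
        simp [Adjunction.homEquiv_unit, Functor.map_add]
      refine ((map_sum (AddMonoidHom.mk' (adj.homEquiv P (∐ M)) hadd) _ _)).trans ?_
      refine Eq.trans ?_ (map_zero (AddMonoidHom.mk' (adj.homEquiv P (∐ M)) hadd)).symm
      refine Eq.trans ?_ hx
      conv_rhs => rw [← hF, DQGen.partProj_eq_sum, Preadditive.comp_sum, Preadditive.sum_comp]
      refine Finset.sum_congr rfl fun j _ => ?_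
      show adj.homEquiv P (∐ M) (y j ≫ Sigma.ι M j) = _
      simp only [y, Adjunction.homEquiv_naturality_right, Equiv.apply_symm_apply, Category.assoc,
        c, ι_comp_sigmaComparison]
    have hk' : y k = 0 := by
      have := congrArg (· ≫ TriCat.coprodProj M k) hy
      simp only [Preadditive.sum_comp, zero_comp, Category.assoc] at this
      rw [Finset.sum_eq_single k (fun j _ hj => by
        rw [TriCat.ι_coprodProj_ne hj, comp_zero]) (fun h => absurd hk h),
        TriCat.ι_coprodProj_self, Category.comp_id] at this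
      exact this
    have h0 : x ≫ TriCat.coprodProj (fun j => a.obj (M j)) k = 0 := by
      rw [← (adj.homEquiv P (M k)).apply_symm_apply (x ≫ TriCat.coprodProj (fun j => a.obj (M j)) k)]
      show adj.homEquiv P (M k) (y k) = 0
      rw [hk', Adjunction.homEquiv_unit, Functor.map_zero, comp_zero]
    rw [← Category.assoc, h0, zero_comp]
  obtain ⟨E, hgen, hE⟩ : ∃ E : PUnit.{u + 1} → DCoh.DQCoh (X := X),
      (∀ A, (∀ (p : PUnit.{u + 1} × ℤ) (f : TriCat.shiftClosure E p ⟶ A), f = 0) → IsZero A) ∧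
        (∀ p, DCoh.IsPerfect (E p).obj) := by
    obtain ⟨P, hP, hg⟩ := DQGen.exists_generator (X := X) (W := ⊥) (by simp)
    refine ⟨fun _ => ⟨P, hP.pq.1⟩, fun A hA => ?_, fun _ => hP.1⟩
    let ι' := (DCoh.IsQCohD (X := X)).ι
    have h0 := (hg A.obj ((DQGen.pq_bot_iff A.obj).2 A.property)).2 fun n φ => by
      let e := (ι'.commShiftIso n).app (⟨P, hP.pq.1⟩ : DCoh.DQCoh X)
      obtain ⟨g, hg⟩ := ι'.map_surjective (e.hom ≫ φ)
      rw [hA ⟨PUnit.unit, n⟩ g, ι'.map_zero] at hg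
      rw [← cancel_epi e.hom, ← hg, comp_zero]
    exact IsZero.of_full_of_faithful_of_isZero ι' A h0
  have hshift : ∀ (P : DCoh.DQCoh X), DCoh.IsPerfect P.obj → ∀ n : ℤ, DCoh.IsPerfect (P⟦n⟧).obj := by
    intro P hP n
    refine DQGen.isPerfect_of_iso (((DCoh.IsQCohD (X := X)).ι.commShiftIso n).app P).symm ?_
    exact ((DQGen.PP (⊥ : X.Opens)).le_shift n _ ⟨hP, DQGen.isZero_rho_bot _⟩).1
  obtain ⟨C, g, δ, hT⟩ := distinguished_cocone_triangle c
  refine (Triangle.isZero₃_iff_isIso₁ _ hT).1 (hgen C fun p φ => ?_)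
  have hp : DCoh.IsPerfect ((E p.1)⟦p.2⟧).obj := hshift _ (hE p.1) p.2
  -- the connecting part vanishes
  have h1 : φ ≫ δ = 0 := by
    let S := shiftFunctorCompIsoId (DCoh.DQCoh X) (-1 : ℤ) (1 : ℤ) (by omega)
    obtain ⟨x, hx⟩ := (shiftFunctor (DCoh.DQCoh X) (1 : ℤ)).map_surjective
      (S.hom.app (TriCat.shiftClosure E p) ≫ φ ≫ δ)
    have hxc : x ≫ c = 0 := by
      apply (shiftFunctor (DCoh.DQCoh X) (1 : ℤ)).map_injective
      rw [Functor.map_comp, hx, Functor.map_zero, Category.assoc, Category.assoc]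
      have h31 : δ ≫ c⟦(1 : ℤ)⟧' = 0 := comp_distTriang_mor_zero₃₁ _ hT
      erw [h31, comp_zero, comp_zero]
    rw [hinj _ (hshift _ hp (-1)) x hxc, Functor.map_zero] at hx
    rw [← cancel_epi (S.hom.app (TriCat.shiftClosure E p)), comp_zero]
    exact hx.symm
  obtain ⟨φ', rfl⟩ := Triangle.coyoneda_exact₃ _ hT φ h1
  obtain ⟨x, rfl⟩ := hsurj _ hp φ'
  have h12 : c ≫ g = 0 := comp_distTriang_mor_zero₁₂ _ hT
  exact (Category.assoc _ _ _).trans ((congrArg (x ≫ ·) h12).trans comp_zero)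


open KFlatLib in
/-- The right adjoint preserves supports in any open. -/
theorem isZero_HD_rightAdjoint [CompactSpace X] [QuasiSeparatedSpace X] [CompactSpace Y] [QuasiSeparatedSpace Y]
    (f : X ⟶ Y) [QuasiCompact f] [QuasiSeparated f] [DCoh.HasRpush f]
    (hperf : ∀ P : DCoh.D X, DCoh.IsPerfect P → DCoh.IsPerfect ((DCoh.Rpush f).obj P))
    (h : ∀ K : DCoh.D X, DCoh.IsQCohD K → DCoh.IsQCohD ((DCoh.Rpush f).obj K))
    (a : DCoh.DQCoh Y ⥤ DCoh.DQCoh X)
    (adj : (ObjectProperty.lift DCoh.IsQCohD (ObjectProperty.ι DCoh.IsQCohD ⋙ DCoh.Rpush f)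
      (fun K => h K.obj K.property)) ⊣ a) (V : Y.Opens) (Q : DCoh.DQCoh Y)
    (hQ : ∀ i : ℤ, IsZero ((DCoh.HD Q.obj i).restrict V.ι)) (i : ℤ) :
    IsZero ((DCoh.HD (a.obj Q).obj i).restrict (f ⁻¹ᵁ V).ι) := by
  refine isZero_of_stalk _ fun x => ?_
  obtain ⟨_, ⟨(V' : Y.Opens), hV', rfl⟩, hxV', hle⟩ :=
    Y.isBasis_affineOpens.exists_subset_of_mem_open (show f.base x.1 ∈ (V : Set Y) from x.2) V.isOpen
  have hQ' : IsZero ((rho V'.ι).obj Q.obj) := DQGen.isZero_rho_of_le hle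
    (PushAmp.isZero_of_hd fun j => (hQ j).of_iso (restrictHDIso V.ι Q.obj j))
  have h0 : IsZero ((DCoh.HD (a.obj Q).obj i).restrict (f ⁻¹ᵁ V').ι) :=
    ((DerivedCategory.homologyFunctor _ i).map_isZero (isZero_rho_rightAdjoint f h a adj V' hV'.isCompact Q hQ'
      fun P hP => Or.inl (hperf P hP))).of_iso (restrictHDIso (f ⁻¹ᵁ V').ι _ i).symm
  let j : (f ⁻¹ᵁ V').toScheme ⟶ (f ⁻¹ᵁ V).toScheme := X.homOfLE fun y hy => hle hy
  have hx : j.base ⟨x.1, hxV'⟩ = x := Subtype.ext (by simp [j])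
  rw [← hx]
  refine isZero_stalk_of_restrict j ⟨x.1, hxV'⟩ ((DerSch.stalkFunctor _ _).map_isZero (h0.of_iso ?_))
  exact ((Scheme.Modules.restrictFunctorComp j (f ⁻¹ᵁ V).ι).app _).symm ≪≫
    (Scheme.Modules.restrictFunctorCongr (X.homOfLE_ι _)).app _

end Groth.Agent.AdjSupp
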